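import Mathlib.RingTheory.Localization.Integral
import Mathlib.RingTheory.IntegralClosure.IsIntegralClosure.Basic
import Mathlib.RingTheory.Polynomial.ScaleRoots
import Mathlib.RingTheory.Localization.Away.Basic

/-!
Finite subalgebras recovering a finite algebra over a basic localisation.
-/

set_option autoImplicit false

universe u

namespace Groth.Agent.FinExt

variable {A G : Type u} [CommRing A] [CommRing G] [Algebra A G] (f : A)
  {Gf Af : Type u} [CommRing Gf] [CommRing Af] [Algebra G Gf] [Algebra A Af]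
  [IsLocalization.Away f Af] [IsLocalization.Away (algebraMap A G f) Gf]

/-- If `G_f` is finite over `A_f`, finitely many integral elements of `G` generate it up to powers of `f`. -/
theorem exists_integral_gens (ρ : Af →+* Gf) (hρ : ρ.Finite)
    (hcomp : ρ.comp (algebraMap A Af) = (algebraMap G Gf).comp (algebraMap A G)) :
    ∃ S : Finset G, (∀ z ∈ S, IsIntegral A z) ∧
      ∀ e : Gf, ∃ (n : ℕ) (b : G), b ∈ Algebra.adjoin A (S : Set G) ∧
        e * algebraMap G Gf (algebraMap A G f) ^ n = algebraMap G Gf b := by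
  classical
  letI := ρ.toAlgebra
  letI : Algebra A Gf := ((algebraMap G Gf).comp (algebraMap A G)).toAlgebra
  haveI : IsScalarTower A G Gf := IsScalarTower.of_algebraMap_eq' rfl
  haveI : IsScalarTower A Af Gf := IsScalarTower.of_algebraMap_eq' hcomp.symm
  haveI : Module.Finite Af Gf := hρ
  let r := algebraMap A G f
  obtain ⟨T, hT⟩ := (Module.Finite.fg_top : (⊤ : Submodule Af Gf).FG)
  have key : ∀ t : Gf, ∃ (z : G) (n : ℕ), IsIntegral A z ∧ t * algebraMap G Gf r ^ n = algebraMap G Gf z := by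
    intro t
    obtain ⟨n, x, hx⟩ := IsLocalization.Away.surj r t
    obtain ⟨⟨_, m, rfl⟩, hm⟩ := IsIntegral.exists_multiple_integral_of_isLocalization (Submonoid.powers f)
      (Rₘ := Af) (algebraMap G Gf x) (Algebra.IsIntegral.isIntegral _)
    have e1 : (f ^ m) • algebraMap G Gf x = algebraMap G Gf (r ^ m * x) := by
      rw [Algebra.smul_def, IsScalarTower.algebraMap_apply A G Gf, map_pow, ← map_mul]
    obtain ⟨p, hp, hpe⟩ : IsIntegral A (algebraMap G Gf (r ^ m * x)) := by rw [← e1]; exact hm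
    rw [IsScalarTower.algebraMap_eq A G Gf, ← Polynomial.hom_eval₂,
      IsLocalization.map_eq_zero_iff (Submonoid.powers r) Gf] at hpe
    obtain ⟨⟨_, K, rfl⟩, hK⟩ := hpe
    have hK' : r ^ K * p.eval₂ (algebraMap A G) (r ^ m * x) = 0 := hK
    refine ⟨r ^ K * (r ^ m * x), n + (K + m), ?_, ?_⟩
    · by_cases hd : p.natDegree = 0
      · rw [Polynomial.Monic.natDegree_eq_zero hp] at hd
        rw [hd, Polynomial.eval₂_one, mul_one] at hK'
        rw [hK', zero_mul]
        exact isIntegral_zero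
      · refine ⟨Polynomial.scaleRoots p (f ^ K), (Polynomial.monic_scaleRoots_iff _).2 hp, ?_⟩
        rw [← map_pow, Polynomial.scaleRoots_eval₂_mul, map_pow]
        obtain ⟨d, hd'⟩ := Nat.exists_eq_succ_of_ne_zero hd
        rw [hd', pow_succ, mul_assoc, hK', mul_zero]
    · rw [map_mul, map_mul, map_pow, map_pow, ← hx]
      ring
  choose z nz hz hze using key
  refine ⟨T.image z, fun w hw => ?_, fun e => ?_⟩
  · obtain ⟨t, -, rfl⟩ := Finset.mem_image.1 hw
    exact hz t
  have he : e ∈ Submodule.span Af (T : Set Gf) := hT ▸ Submodule.mem_top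
  induction he using Submodule.span_induction with
  | mem t ht => exact ⟨nz t, z t, Algebra.subset_adjoin (Finset.mem_coe.2 (Finset.mem_image_of_mem z ht)), hze t⟩
  | zero => exact ⟨0, 0, zero_mem _, by rw [zero_mul, map_zero]⟩
  | add a b _ _ ha hb =>
    obtain ⟨n₁, b₁, h₁, e₁⟩ := ha
    obtain ⟨n₂, b₂, h₂, e₂⟩ := hb
    refine ⟨n₁ + n₂, r ^ n₂ * b₁ + r ^ n₁ * b₂, ?_, ?_⟩
    · exact add_mem (mul_mem (pow_mem (Subalgebra.algebraMap_mem _ f) _) h₁)
        (mul_mem (pow_mem (Subalgebra.algebraMap_mem _ f) _) h₂)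
    · rw [map_add, map_mul, map_mul, map_pow, map_pow, ← e₁, ← e₂]
      ring
  | smul c a _ ha =>
    obtain ⟨n₁, b₁, h₁, e₁⟩ := ha
    obtain ⟨s, a₀, ha₀⟩ := IsLocalization.Away.surj f c
    refine ⟨s + n₁, algebraMap A G a₀ * b₁, mul_mem (Subalgebra.algebraMap_mem _ a₀) h₁, ?_⟩
    have h := congrArg ρ ha₀
    rw [map_mul, map_pow] at h
    have hA : ∀ a : A, ρ (algebraMap A Af a) = algebraMap G Gf (algebraMap A G a) := fun a => RingHom.congr_fun hcomp a
    rw [hA, hA] at h
    rw [map_mul, ← e₁, ← h, Algebra.smul_def]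
    show ρ c * a * _ = _
    ring

end Groth.Agent.FinExt
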